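import Mathlib
/-!
The completion of a discrete valuation ring, and orders.
-/

set_option autoImplicit false
set_option linter.style.haveILetI false

universe u

open IsDedekindDomain WithZero

noncomputable section

namespace Groth.Agent.IsoTorusPts

/-- The order of a unit of the fraction field of a discrete valuation ring. -/
theorem exists_ord (E : Type u) [CommRing E] [IsDomain E] [IsDiscreteValuationRing E] (F : Type u) [Field F]
    [Algebra E F] [IsFractionRing E F] {ϖ : E} (hϖ : Irreducible ϖ) :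
    ∃ (p : Fˣ) (o : Fˣ →* Multiplicative ℤ), (p : F) = algebraMap E F ϖ ∧ o p = Multiplicative.ofAdd 1 ∧
      (∀ z : Eˣ, o (Units.map (algebraMap E F : E →* F) z) = 1) ∧
      (∀ z : Fˣ, o z = 1 → ∃ w : Eˣ, algebraMap E F w = z) := by
  have hinj : Function.Injective (algebraMap E F) := IsFractionRing.injective E F
  let p : Fˣ := Units.mk0 (algebraMap E F ϖ) fun h => hϖ.ne_zero (hinj (h.trans (map_zero _).symm))
  let em : Eˣ →* Fˣ := Units.map (algebraMap E F : E →* F)
  have hex : ∀ z : Fˣ, ∃ (n : ℤ) (w : Eˣ), z = p ^ n * em w := by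
    intro z
    obtain ⟨a, b, hb, hab⟩ := IsFractionRing.div_surjective (A := E) (z : F)
    have ha : a ≠ 0 := by rintro rfl; exact z.ne_zero (by rw [← hab, map_zero, zero_div])
    have hb0 : b ≠ 0 := nonZeroDivisors.ne_zero hb
    obtain ⟨i, wa, rfl⟩ := IsDiscreteValuationRing.eq_unit_mul_pow_irreducible ha hϖ
    obtain ⟨k, wb, rfl⟩ := IsDiscreteValuationRing.eq_unit_mul_pow_irreducible hb0 hϖ
    refine ⟨(i : ℤ) - k, wa * wb⁻¹, ?_⟩
    rw [map_mul, map_inv, zpow_sub, zpow_natCast, zpow_natCast]
    ext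
    simp only [Units.val_mul, Units.val_inv_eq_inv_val, Units.val_pow_eq_pow_val]
    rw [← hab, map_mul, map_mul, map_pow, map_pow]
    show _ = algebraMap E F ϖ ^ i * (algebraMap E F ϖ ^ k)⁻¹ * (algebraMap E F wa * (algebraMap E F wb)⁻¹)
    rw [div_eq_mul_inv, mul_inv]
    ring
  have hnat : ∀ (n : ℕ) (w : Eˣ), p ^ n = em w → n = 0 := by
    intro n w h
    by_contra hn
    have h1 : algebraMap E F (ϖ ^ n) = algebraMap E F w := by
      rw [map_pow]; exact congrArg Units.val h
    exact hϖ.not_isUnit ((isUnit_pow_iff hn).1 (by rw [hinj h1]; exact w.isUnit))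
  have huniq : ∀ (n : ℤ) (w : Eˣ), p ^ n = em w → n = 0 := by
    intro n w h
    obtain ⟨k, rfl | rfl⟩ := Int.eq_nat_or_neg n
    · exact Int.natCast_eq_zero.2 (hnat k w (by rwa [zpow_natCast] at h))
    · rw [zpow_neg, zpow_natCast, inv_eq_iff_eq_inv, ← map_inv] at h
      rw [hnat k w⁻¹ h]; rfl
  choose n w hw using hex
  have hn : ∀ (z : Fˣ) (k : ℤ) (x : Eˣ), z = p ^ k * em x → n z = k := by
    intro z k x hz
    have h := (hw z).symm.trans hz
    have h2 : p ^ (n z - k) = em (x * (w z)⁻¹) := by
      rw [zpow_sub, map_mul, map_inv, mul_inv_eq_iff_eq_mul, mul_right_comm, eq_mul_inv_iff_mul_eq, h, mul_comm]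
    exact sub_eq_zero.1 (huniq _ _ h2)
  let o : Fˣ →* Multiplicative ℤ :=
    { toFun := fun z => Multiplicative.ofAdd (n z)
      map_one' := by rw [hn 1 0 1 (by simp), ofAdd_zero]
      map_mul' := fun a b => by
        rw [← ofAdd_add, hn (a * b) (n a + n b) (w a * w b) (by
          rw [zpow_add, map_mul, mul_mul_mul_comm, ← hw a, ← hw b])] }
  refine ⟨p, o, rfl, ?_, fun z => ?_, fun z hz => ⟨w z, ?_⟩⟩
  · show Multiplicative.ofAdd (n p) = _
    rw [hn p 1 1 (by simp)]
  · show Multiplicative.ofAdd (n _) = _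
    rw [hn _ 0 z (by simp [em]), ofAdd_zero]
  · have h0 : n z = 0 := Multiplicative.ofAdd.injective (hz.trans ofAdd_zero.symm)
    have := hw z
    rw [h0, zpow_zero, one_mul] at this
    exact (congrArg Units.val this).symm

variable (A : Type u) [CommRing A] [IsDomain A] [IsDiscreteValuationRing A] (v : HeightOneSpectrum A)
  (K : Type u) [Field K] [Algebra A K] [IsFractionRing A K]

local notation "O" => v.adicCompletionIntegers K

theorem eq_span {π : A} (hπ : Irreducible π) : v.asIdeal = Ideal.span {π} := by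
  rw [← hπ.maximalIdeal_eq]
  exact IsLocalRing.eq_maximalIdeal (v.isPrime.isMaximal v.ne_bot)

theorem valued_uniformizer {π : A} (hπ : Irreducible π) :
    Valued.v ((algebraMap A O π : O) : v.adicCompletion K) = exp (-1 : ℤ) := by
  rw [HeightOneSpectrum.algebraMap_adicCompletionIntegers_apply, HeightOneSpectrum.valuedAdicCompletion_eq_valuation',
    HeightOneSpectrum.valuation_of_algebraMap, v.intValuation_singleton hπ.ne_zero (eq_span A v hπ)]

theorem not_isUnit_uniformizer {π : A} (hπ : Irreducible π) : ¬ IsUnit (algebraMap A O π) := by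
  rw [HeightOneSpectrum.adicCompletionIntegers.isUnit_iff_valued_eq_one, valued_uniformizer A v K hπ, ← exp_zero]
  exact fun h => by have := exp_injective h; omega

theorem dvd_of_valued_lt {π : A} (hπ : Irreducible π) (z : O) (hz : Valued.v (z : v.adicCompletion K) < 1) :
    algebraMap A O π ∣ z := by
  rcases eq_or_ne (Valued.v (z : v.adicCompletion K)) 0 with h | h
  · have : z = 0 := Subtype.ext ((Valuation.zero_iff Valued.v).1 h)
    rw [this]; exact dvd_zero _
  · refine (HeightOneSpectrum.adicCompletionIntegers.integers (K := K) v).dvd_of_le ?_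
    show Valued.v (z : v.adicCompletion K) ≤ Valued.v ((algebraMap A O π : O) : v.adicCompletion K)
    rw [valued_uniformizer A v K hπ]
    rw [← exp_log h] at hz ⊢
    rw [← exp_zero, exp_lt_exp] at hz
    exact exp_le_exp.2 (by omega)

theorem dvd_of_not_isUnit {π : A} (hπ : Irreducible π) (z : O) (hz : ¬ IsUnit z) : algebraMap A O π ∣ z :=
  dvd_of_valued_lt A v K hπ z (lt_of_le_of_ne z.2
    fun h => hz ((HeightOneSpectrum.adicCompletionIntegers.isUnit_iff_valued_eq_one).2 h))

theorem exists_sub_dvd {π : A} (hπ : Irreducible π) (z : O) : ∃ a : A, algebraMap A O π ∣ z - algebraMap A O a := by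
  have hU : {x : v.adicCompletion K | Valued.v.restrict (x - z.1) < 1} ∈ nhds z.1 :=
    Valued.mem_nhds.mpr ⟨1, subset_rfl⟩
  obtain ⟨_, hx, k, rfl⟩ :=
    mem_closure_iff_nhds.1 ((HeightOneSpectrum.denseRange_algebraMap (K := K) (v := v)).closure_range ▸ Set.mem_univ z.1) _ hU
  have hlt : Valued.v (algebraMap K (v.adicCompletion K) k - z.1) < 1 := by
    simpa [Valuation.restrict_lt_one_iff] using hx
  have hk : v.valuation K k ≤ 1 := by
    rw [← HeightOneSpectrum.valuedAdicCompletion_eq_valuation']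
    have h := Valuation.map_add Valued.v (algebraMap K (v.adicCompletion K) k - z.1) z.1
    rw [sub_add_cancel] at h
    exact h.trans (max_le hlt.le z.2)
  obtain ⟨a, ha⟩ := HeightOneSpectrum.mem_integers_of_valuation_le_one K k fun w => by
    have hw : w = v := HeightOneSpectrum.ext ((IsLocalRing.eq_maximalIdeal (w.isPrime.isMaximal w.ne_bot)).trans
      (IsLocalRing.eq_maximalIdeal (v.isPrime.isMaximal v.ne_bot)).symm)
    rw [hw]; exact hk
  refine ⟨a, dvd_of_valued_lt A v K hπ _ ?_⟩
  rw [AddSubgroupClass.coe_sub, Valuation.map_sub_swap, HeightOneSpectrum.algebraMap_adicCompletionIntegers_apply, ha]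
  exact hlt

end Groth.Agent.IsoTorusPts
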