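import Groth.Agent.IsoTorusPts.Points
/-!
Points of an affine group through subrings, and prime avoidance for an invariant uniformizer.
-/

set_option autoImplicit false
set_option backward.isDefEq.respectTransparency false
set_option backward.isDefEq.respectTransparency.types false
set_option linter.style.haveILetI false

universe u

open CategoryTheory CategoryTheory.Limits MonoidalCategory CartesianMonoidalCategory AlgebraicGeometry
open scoped MonObj

noncomputable section

namespace Groth.Agent.IsoTorusPts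

variable {A : Type u} [CommRing A] {T : Over (Spec (CommRingCat.of A))} [GrpObj T] [IsAffine T.left]

theorem hom_ofHom_inj {R S : Type u} [CommRing R] [CommRing S] {f g : R →+* S}
    (h : CommRingCat.ofHom f = CommRingCat.ofHom g) : f = g :=
  congrArg CommRingCat.Hom.hom h

/-- The ring map of a point. -/
def ring {R : Type u} [CommRing R] [Algebra A R] (p : Y A R ⟶ T) : Γ(T.left, ⊤) →+* R :=
  (Spec.preimage (p.left ≫ T.left.isoSpec.hom)).hom

theorem spec_ring {R : Type u} [CommRing R] [Algebra A R] (p : Y A R ⟶ T) :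
    Spec.map (CommRingCat.ofHom (ring p)) = p.left ≫ T.left.isoSpec.hom := Spec.map_preimage _

theorem ring_pb {R R' : Type u} [CommRing R] [Algebra A R] [CommRing R'] [Algebra A R'] (f : R →ₐ[A] R')
    (p : Y A R ⟶ T) : ring (pb T f p) = (f : R →+* R').comp (ring p) := by
  apply hom_ofHom_inj
  apply Spec.map_injective
  rw [spec_ring, CommRingCat.ofHom_comp, Spec.map_comp, spec_ring]
  exact Category.assoc _ _ _

theorem ring_injective {R : Type u} [CommRing R] [Algebra A R] {p q : Y A R ⟶ T} (h : ring p = ring q) : p = q := by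
  apply Over.OverMorphism.ext
  rw [← cancel_mono T.left.isoSpec.hom, ← spec_ring, ← spec_ring, h]

/-- Factorisation of a point through a subring. -/
theorem exists_factor {R₀ R : Type u} [CommRing R₀] [Algebra A R₀] [CommRing R] [Algebra A R] (g : R₀ →ₐ[A] R)
    (hg : Function.Injective g) (p : Y A R ⟶ T) (h : ∀ c, ∃ r, g r = ring p c) : ∃ q : Y A R₀ ⟶ T, pb T g q = p := by
  choose f hf using h
  let φ : Γ(T.left, ⊤) →+* R₀ :=
    { toFun := f
      map_one' := hg (by simp [hf])
      map_mul' := fun a b => hg (by simp [hf])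
      map_zero' := hg (by simp [hf])
      map_add' := fun a b => hg (by simp [hf]) }
  have hφ : (g : R₀ →+* R).comp φ = ring p := RingHom.ext hf
  let ψ := Spec.preimage (T.left.isoSpec.inv ≫ T.hom)
  have hψ : Spec.map ψ = T.left.isoSpec.inv ≫ T.hom := Spec.map_preimage _
  have hp : (ring p).comp ψ.hom = algebraMap A R := by
    apply hom_ofHom_inj
    apply Spec.map_injective
    rw [CommRingCat.ofHom_comp, Spec.map_comp, CommRingCat.ofHom_hom, spec_ring, hψ, Category.assoc, Iso.hom_inv_id_assoc]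
    exact Over.w p
  have hw : (Spec.map (CommRingCat.ofHom φ) ≫ T.left.isoSpec.inv) ≫ T.hom =
      Spec.map (CommRingCat.ofHom (algebraMap A R₀)) := by
    rw [Category.assoc, ← hψ, ← Spec.map_comp]
    congr 1
    apply CommRingCat.hom_ext
    refine RingHom.ext fun a => hg ?_
    show g (φ (ψ.hom a)) = g (algebraMap A R₀ a)
    rw [AlgHom.commutes, ← hp]
    exact congrFun (congrArg DFunLike.coe hφ) _
  refine ⟨Over.homMk (Spec.map (CommRingCat.ofHom φ) ≫ T.left.isoSpec.inv) hw, ring_injective ?_⟩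
  rw [ring_pb, ← hφ]
  congr 1
  apply hom_ofHom_inj
  apply Spec.map_injective
  rw [spec_ring]
  simp

/-- An element fixed by the stabiliser of a maximal ideal, congruent to `π` modulo its square and a unit at the conjugates. -/
theorem exists_local_uniformizer {B : Type u} [CommRing B] [Algebra A B] (G : Subgroup (B ≃ₐ[A] B)) [Finite G]
    (π : A) (w : Ideal B) [hw : w.IsMaximal] :
    ∃ y : B, (∀ σ ∈ G, w.comap σ.toAlgHom = w → σ y = y) ∧ y - algebraMap A B π ∈ w ^ 2 ∧
      ∀ σ ∈ G, w.comap σ.toAlgHom ≠ w → σ y ∉ w := by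
  classical
  haveI : Fintype G := Fintype.ofFinite _
  let inD : G → Prop := fun σ => w.comap σ.1.toAlgHom = w
  let S : Finset G := Finset.univ.filter fun σ => ¬ inD σ
  have hmem : ∀ (σ : G) (b : B), b ∈ w.comap σ.1.toAlgHom ↔ σ.1 b ∈ w := fun _ _ => Iff.rfl
  have hcop : w ^ 2 ⊔ (⨅ σ ∈ S, w.comap σ.1.toAlgHom) = ⊤ := by
    refine Ideal.sup_iInf_eq_top fun σ hσ => ?_
    refine Ideal.isCoprime_iff_sup_eq.1 (IsCoprime.pow_left (Ideal.isCoprime_iff_sup_eq.2 ?_))
    haveI : (w.comap σ.1.toAlgHom).IsMaximal := Ideal.comap_isMaximal_of_surjective _ σ.1.surjective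
    exact hw.coprime_of_ne ‹_› fun h => (Finset.mem_filter.1 hσ).2 h.symm
  obtain ⟨a, ha, e, he, hae⟩ := Submodule.mem_sup.1 (hcop ▸ Submodule.mem_top : (1 : B) ∈ _)
  have hinD : ∀ (σ : G), inD σ ↔ ∀ b : B, σ.1 b ∈ w ↔ b ∈ w := fun σ =>
    ⟨fun h b => by rw [← hmem, h], fun h => Ideal.ext fun b => (hmem σ b).trans (h b)⟩
  let D : Finset G := Finset.univ.filter inD
  obtain ⟨c, hc⟩ : ∃ c : B, c = 1 - ∏ τ ∈ D, (1 - τ.1 e) := ⟨_, rfl⟩
  have hc1 : 1 - c ∈ w ^ 2 := by
    rw [hc, sub_sub_cancel]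
    rw [← Finset.mul_prod_erase D _ (Finset.mem_filter.2 ⟨Finset.mem_univ (1 : G), (hinD 1).2 fun b => Iff.rfl⟩)]
    refine Ideal.mul_mem_right _ _ ?_
    show 1 - e ∈ _
    rwa [← hae, add_sub_cancel_right]
  have hmul : ∀ σ τ : G, inD σ → (inD (σ * τ) ↔ inD τ) := by
    intro σ τ hσ
    rw [hinD, hinD]
    exact forall_congr' fun b => by
      show (σ.1 (τ.1 b) ∈ w ↔ _) ↔ _
      rw [(hinD σ).1 hσ]
  refine ⟨algebraMap A B π * c + (1 - c), fun σ hσG hσ => ?_, ?_, fun σ hσG hσ => ?_⟩
  · have hfix : σ c = c := by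
      simp only [hc, map_sub, map_one, map_prod, sub_right_inj]
      refine Finset.prod_equiv (Equiv.mulLeft ⟨σ, hσG⟩) (fun τ => ?_) fun τ _ => rfl
      simp only [D, Finset.mem_filter, Finset.mem_univ, true_and, Equiv.coe_mulLeft]
      exact (hmul ⟨σ, hσG⟩ τ hσ).symm
    rw [map_add, map_mul, map_sub, map_one, hfix, AlgEquiv.commutes]
  · rw [show algebraMap A B π * c + (1 - c) - algebraMap A B π = (1 - c) * (1 - algebraMap A B π) by ring]
    exact Ideal.mul_mem_right _ _ hc1
  · have hσc : σ c ∈ w := by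
      have h1 : ∀ τ ∈ D, σ (τ.1 e) ∈ w := by
        intro τ hτ
        have : ¬ inD (⟨σ, hσG⟩ * τ) := fun h => hσ ((hinD ⟨σ, hσG⟩).2 fun b => by
          have h2 := (hinD _).1 h (τ⁻¹.1 b)
          have h3 := (hinD τ).1 (Finset.mem_filter.1 hτ).2 (τ⁻¹.1 b)
          have h4 : τ.1 (τ⁻¹.1 b) = b := τ.1.apply_symm_apply b
          rw [h4] at h3
          have h5 : (⟨σ, hσG⟩ * τ : G).1 (τ⁻¹.1 b) = σ b := congrArg σ h4
          rw [h5] at h2
          exact h2.trans h3.symm)
        have := (Submodule.mem_iInf _).1 ((Submodule.mem_iInf _).1 he (⟨σ, hσG⟩ * τ))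
          (Finset.mem_filter.2 ⟨Finset.mem_univ _, this⟩)
        exact this
      simp only [hc, map_sub, map_one, map_prod]
      rw [← Ideal.Quotient.eq_zero_iff_mem, map_sub, map_prod, map_one]
      rw [Finset.prod_eq_one fun τ hτ => by
        rw [map_sub, map_one, Ideal.Quotient.eq_zero_iff_mem.2 (h1 τ hτ), sub_zero], sub_self]
    intro h
    rw [map_add, map_mul, map_sub, map_one, add_sub, add_comm (σ (algebraMap A B π) * σ c) 1, add_sub_assoc] at h
    exact hw.ne_top (Ideal.eq_top_iff_one _ |>.2 (by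
      simpa using sub_mem h (sub_mem (Ideal.mul_mem_left _ (σ (algebraMap A B π)) hσc) hσc)))

end Groth.Agent.IsoTorusPts
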