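import Groth.Agent.FixedSmooth.Split
import Mathlib
/-!
Points of a torus with values in algebras over a splitting ring.
-/

set_option autoImplicit false
set_option backward.isDefEq.respectTransparency false
set_option backward.isDefEq.respectTransparency.types false
set_option linter.style.haveILetI false

universe u

open CategoryTheory CategoryTheory.Limits MonoidalCategory CartesianMonoidalCategory AlgebraicGeometry
open scoped MonObj

noncomputable section

namespace Groth.Agent.IsoTorusPts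

variable (A : Type u) [CommRing A]

/-- `Spec R` over `Spec A`. -/
abbrev Y (R : Type u) [CommRing R] [Algebra A R] : Over (Spec (CommRingCat.of A)) :=
  Over.mk (Spec.map (CommRingCat.ofHom (algebraMap A R)))

variable {A}

/-- The map of spectra of an algebra homomorphism. -/
def yMap {R R' : Type u} [CommRing R] [Algebra A R] [CommRing R'] [Algebra A R'] (f : R →ₐ[A] R') : Y A R' ⟶ Y A R :=
  Over.homMk (Spec.map (CommRingCat.ofHom f.toRingHom)) (by
    show Spec.map _ ≫ Spec.map _ = Spec.map _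
    rw [← Spec.map_comp, ← CommRingCat.ofHom_comp]
    exact congrArg (fun g => Spec.map (CommRingCat.ofHom g)) f.comp_algebraMap)

theorem yMap_eq {R R' : Type u} [CommRing R] [Algebra A R] [CommRing R'] [Algebra A R'] (f : R →ₐ[A] R')
    (φ : Y A R' ⟶ Y A R) (h : φ.left = Spec.map (CommRingCat.ofHom f.toRingHom)) : φ = yMap f :=
  Over.OverMorphism.ext h

variable (T : Over (Spec (CommRingCat.of A))) [GrpObj T]

/-- Restriction of points. -/
def pb {R R' : Type u} [CommRing R] [Algebra A R] [CommRing R'] [Algebra A R'] (f : R →ₐ[A] R') :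
    (Y A R ⟶ T) →* (Y A R' ⟶ T) where
  toFun x := yMap f ≫ x
  map_one' := MonObj.comp_one _
  map_mul' a b := MonObj.comp_mul _ _ _

theorem pb_pb {R R' R'' : Type u} [CommRing R] [Algebra A R] [CommRing R'] [Algebra A R'] [CommRing R''] [Algebra A R'']
    (f : R →ₐ[A] R') (g : R' →ₐ[A] R'') (x : Y A R ⟶ T) : pb T g (pb T f x) = pb T (g.comp f) x := by
  show yMap g ≫ yMap f ≫ x = yMap (g.comp f) ≫ x
  rw [← Category.assoc]
  congr 1
  exact yMap_eq _ _ (Spec.map_comp _ _).symm

theorem pb_id {R : Type u} [CommRing R] [Algebra A R] (x : Y A R ⟶ T) : pb T (AlgHom.id A R) x = x := by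
  show yMap (AlgHom.id A R) ≫ x = x
  rw [← yMap_eq (AlgHom.id A R) (𝟙 _) (Spec.map_id _).symm, Category.id_comp]

/-- The points of `T`, in algebras over a ring `B`, as characters. -/
structure Chart (B : Type u) [CommRing B] [Algebra A B] (M : Type) [AddCommGroup M] where
  /-- the points -/
  pt : ∀ {R : Type u} [CommRing R] [Algebra A R], (B →ₐ[A] R) → ((Multiplicative M →* R) ≃* (Y A R ⟶ T))
  nat : ∀ {R R' : Type u} [CommRing R] [Algebra A R] [CommRing R'] [Algebra A R'] (j : B →ₐ[A] R) (f : R →ₐ[A] R')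
    (χ : Multiplicative M →* R), pb T f (pt j χ) = pt (f.comp j) ((f : R →* R').comp χ)

variable {T}

theorem nonempty_chart {B : Type u} [CommRing B] [Algebra A B] {M : Type} [AddCommGroup M]
    (e : Grp.mk (Red.bc (Spec.map (CommRingCat.ofHom (algebraMap A B))) T) ≅ Grp.mk (Red.DS (Spec (CommRingCat.of B)) M)) :
    Nonempty (Chart T B M) := by
  obtain ⟨σ⟩ := FixedSmooth.exists_split (Spec.map (CommRingCat.ofHom (algebraMap A B))) M e
  have hw : ∀ {R : Type u} [CommRing R] [Algebra A R] (j : B →ₐ[A] R),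
      Spec.map (CommRingCat.ofHom j.toRingHom) ≫ Spec.map (CommRingCat.ofHom (algebraMap A B)) =
        Spec.map (CommRingCat.ofHom (algebraMap A R)) := fun j => by
    rw [← Spec.map_comp, ← CommRingCat.ofHom_comp]
    exact congrArg (fun g => Spec.map (CommRingCat.ofHom g)) j.comp_algebraMap
  let c : ∀ {R : Type u} [CommRing R] [Algebra A R] (j : B →ₐ[A] R), Y A R ≅
      Over.mk (Spec.map (CommRingCat.ofHom j.toRingHom) ≫ Spec.map (CommRingCat.ofHom (algebraMap A B))) :=
    fun j => Over.isoMk (Iso.refl _) ((Category.id_comp _).trans (hw j))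
  refine ⟨⟨fun {R} _ _ j => (σ.pt (CommRingCat.of R) (Spec.map (CommRingCat.ofHom j.toRingHom))).trans
    (FixedSmooth.precompEquiv (c j)), fun {R R'} _ _ _ _ j f χ => ?_⟩⟩
  have key : ∀ (q q' : Spec (CommRingCat.of R') ⟶ Spec (CommRingCat.of B)) (χ' : Multiplicative M →* R'), q = q' →
      (σ.pt (CommRingCat.of R') q χ').left = (σ.pt (CommRingCat.of R') q' χ').left := by
    rintro q q' χ' rfl; rfl
  apply Over.OverMorphism.ext
  show Spec.map (CommRingCat.ofHom f.toRingHom) ≫ 𝟙 _ ≫ (σ.pt _ _ χ).left = 𝟙 _ ≫ (σ.pt _ _ _).left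
  rw [Category.id_comp, Category.id_comp]
  have h := congrArg CommaMorphism.left (σ.nat (CommRingCat.of R) (CommRingCat.of R')
    (Spec.map (CommRingCat.ofHom j.toRingHom)) (CommRingCat.ofHom f.toRingHom) χ)
  refine h.trans (key _ _ _ ?_)
  rw [← Spec.map_comp]
  rfl

/-- The units of a ring of Laurent polynomials over a domain. -/
theorem isUnit_laurent {B : Type u} [CommRing B] [IsDomain B] {f : LaurentPolynomial B} (hf : IsUnit f) :
    ∃ (b : B) (n : ℤ), f = LaurentPolynomial.C b * LaurentPolynomial.T n := by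
  obtain ⟨g, hg⟩ := hf.exists_right_inv
  obtain ⟨k, f', hf'⟩ := f.exists_T_pow
  obtain ⟨l, g', hg'⟩ := g.exists_T_pow
  have h : f' * g' = Polynomial.X ^ (k + l) := Polynomial.toLaurent_injective (by
    rw [map_mul, hf', hg', map_pow, Polynomial.toLaurent_X, LaurentPolynomial.T_pow, mul_one, Nat.cast_add,
      LaurentPolynomial.T_add, mul_mul_mul_comm, hg, one_mul])
  obtain ⟨i, -, hi⟩ := (dvd_prime_pow Polynomial.prime_X _).1 (Dvd.intro g' h)
  obtain ⟨w, hw⟩ := hi.symm
  obtain ⟨b, -, hb⟩ := Polynomial.isUnit_iff.1 w.isUnit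
  refine ⟨b, (i : ℤ) - k, ?_⟩
  rw [← hw, ← hb, map_mul, Polynomial.toLaurent_X_pow, Polynomial.toLaurent_C] at hf'
  calc f = f * LaurentPolynomial.T (k : ℤ) * LaurentPolynomial.T (-(k : ℤ)) := by
        rw [mul_assoc, ← LaurentPolynomial.T_add, add_neg_cancel, LaurentPolynomial.T_zero, mul_one]
    _ = _ := by
        rw [← hf', mul_comm (LaurentPolynomial.T (i : ℤ)), mul_assoc, ← LaurentPolynomial.T_add, sub_eq_add_neg]

namespace Chart

variable {B : Type u} [CommRing B] [Algebra A B] {M : Type} [AddCommGroup M] (Θ : Chart T B M)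

/-- The character of a point. -/
def char {R : Type u} [CommRing R] [Algebra A R] (j : B →ₐ[A] R) : (Y A R ⟶ T) ≃* (Multiplicative M →* R) :=
  (Θ.pt j).symm

theorem char_pb {R R' : Type u} [CommRing R] [Algebra A R] [CommRing R'] [Algebra A R'] (j : B →ₐ[A] R)
    (f : R →ₐ[A] R') (x : Y A R ⟶ T) : Θ.char (f.comp j) (pb T f x) = (f : R →* R').comp (Θ.char j x) := by
  apply (Θ.pt (f.comp j)).injective
  rw [char, MulEquiv.apply_symm_apply, ← Θ.nat]
  exact congrArg (pb T f) ((Θ.pt j).apply_symm_apply x).symm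

include Θ in
theorem mul_comm' {R : Type u} [CommRing R] [Algebra A R] (j : B →ₐ[A] R) (x y : Y A R ⟶ T) : x * y = y * x := by
  apply (Θ.char j).injective
  rw [map_mul, map_mul, mul_comm]

variable (w : M →+ ℤ)

/-- `m ↦ u ^ w m`. -/
def pw {R : Type u} [CommRing R] (w : M →+ ℤ) (u : Rˣ) : Multiplicative M →* R :=
  (Units.coeHom R).comp ((zpowersHom Rˣ u).comp w.toMultiplicative)

theorem pw_apply {R : Type u} [CommRing R] (u : Rˣ) (m : Multiplicative M) :
    pw w u m = ((u ^ w m.toAdd : Rˣ) : R) := rfl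

theorem comp_pw {R R' : Type u} [CommRing R] [CommRing R'] (f : R →+* R') (u : Rˣ) :
    (f : R →* R').comp (pw w u) = pw w (Units.map (f : R →* R') u) := by
  refine MonoidHom.ext fun m => ?_
  rw [MonoidHom.comp_apply, pw_apply, pw_apply, ← map_zpow]
  rfl

/-- The point `w(u)`. -/
def gen {R : Type u} [CommRing R] [Algebra A R] (j : B →ₐ[A] R) (u : Rˣ) : Y A R ⟶ T := Θ.pt j (pw w u)

theorem pb_gen {R R' : Type u} [CommRing R] [Algebra A R] [CommRing R'] [Algebra A R'] (j : B →ₐ[A] R)
    (f : R →ₐ[A] R') (u : Rˣ) : pb T f (Θ.gen w j u) = Θ.gen w (f.comp j) (Units.map (f : R →* R') u) := by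
  rw [gen, Θ.nat, gen]
  exact congrArg _ (comp_pw w (f : R →+* R') u)

theorem char_gen {R : Type u} [CommRing R] [Algebra A R] (j : B →ₐ[A] R) (u : Rˣ) :
    Θ.char j (Θ.gen w j u) = pw w u := (Θ.pt j).symm_apply_apply _

/-- A change of the structure map multiplies exponents. -/
theorem exists_exponent [IsDomain B] (σ : B →ₐ[A] B) :
    ∃ n : Multiplicative M → ℤ, ∀ {R : Type u} [CommRing R] [Algebra A R] (j : B →ₐ[A] R) (u : Rˣ) (m : Multiplicative M),
      Θ.char (j.comp σ) (Θ.gen w j u) m = ((u ^ n m : Rˣ) : R) := by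
  classical
  let C₀ : B →ₐ[A] LaurentPolynomial B := IsScalarTower.toAlgHom A B (LaurentPolynomial B)
  let u₀ : (LaurentPolynomial B)ˣ := (LaurentPolynomial.isUnit_T 1).unit
  have hu₀ : (u₀ : LaurentPolynomial B) = LaurentPolynomial.T 1 := rfl
  let φ := Θ.char (C₀.comp σ) (Θ.gen w C₀ u₀)
  -- specialisation
  have hsp : ∀ {R : Type u} [CommRing R] [Algebra A R] (j : B →ₐ[A] R) (u : Rˣ) (m : Multiplicative M),
      ∃ f : LaurentPolynomial B →+* R, (∀ b, f (LaurentPolynomial.C b) = j b) ∧ f (LaurentPolynomial.T 1) = u ∧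
        Θ.char (j.comp σ) (Θ.gen w j u) m = f (φ m) := by
    intro R _ _ j u m
    let f₀ : LaurentPolynomial B →+* R := LaurentPolynomial.eval₂ (j : B →+* R) u
    have hC : ∀ b, f₀ (LaurentPolynomial.C b) = j b := fun b => LaurentPolynomial.eval₂_C _ _ b
    have hT : f₀ (LaurentPolynomial.T 1) = u := by simp [f₀]
    have hcomm : ∀ a : A, f₀ (algebraMap A (LaurentPolynomial B) a) = algebraMap A R a := fun a => by
      rw [IsScalarTower.algebraMap_apply A B (LaurentPolynomial B), ← j.commutes a, ← hC]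
      rfl
    let f : LaurentPolynomial B →ₐ[A] R := { f₀ with commutes' := hcomm }
    have h1 : f.comp C₀ = j := AlgHom.ext hC
    have hpb := Θ.pb_gen w C₀ f u₀
    have h2 : Units.map (f : LaurentPolynomial B →* R) u₀ = u := Units.ext hT
    rw [h1, h2] at hpb
    refine ⟨f₀, hC, hT, ?_⟩
    rw [← hpb, ← h1, AlgHom.comp_assoc, Θ.char_pb]
    rfl
  have hunit : ∀ m, ∃ (b : B) (n : ℤ), φ m = LaurentPolynomial.C b * LaurentPolynomial.T n := by
    intro m
    exact isUnit_laurent ((Group.isUnit (Multiplicative.ofAdd m.toAdd)).map φ)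
  choose b n hn using hunit
  have hb : ∀ m, b m = 1 := by
    intro m
    obtain ⟨f, hC, hT, hf⟩ := hsp (AlgHom.id A B) 1 m
    have h1 : Θ.gen w (AlgHom.id A B) (1 : Bˣ) = 1 := by
      rw [gen, show pw w (1 : Bˣ) = 1 from MonoidHom.ext fun _ => by simp [pw_apply], map_one]
    have hTn : ∀ k : ℤ, f (LaurentPolynomial.T k) = 1 := fun k => by
      let F : Multiplicative ℤ →* B :=
        { toFun := fun k => f (LaurentPolynomial.T k.toAdd)
          map_one' := by simp
          map_mul' := fun a c => by rw [toAdd_mul, LaurentPolynomial.T_add, map_mul] }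
      have : F = 1 := MonoidHom.ext_mint (by simpa [F] using hT)
      simpa [F] using DFunLike.congr_fun this (Multiplicative.ofAdd k)
    rw [h1, map_one, hn, map_mul, hC, hTn, mul_one] at hf
    exact hf.symm
  refine ⟨n, fun {R} _ _ j u m => ?_⟩
  obtain ⟨f, hC, hT, hf⟩ := hsp j u m
  rw [hf, hn, hb, map_one, one_mul]
  let F : Multiplicative ℤ →* R :=
    { toFun := fun k => f (LaurentPolynomial.T k.toAdd)
      map_one' := by simp
      map_mul' := fun a c => by rw [toAdd_mul, LaurentPolynomial.T_add, map_mul] }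
  have : F = (Units.coeHom R).comp (zpowersHom Rˣ u) := MonoidHom.ext_mint (by simpa [F] using hT)
  simpa [F] using DFunLike.congr_fun this (Multiplicative.ofAdd (n m))

end Chart

end Groth.Agent.IsoTorusPts
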