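import Groth.Prelude.Def_TwC
import Groth.Agent.TorusField.Bridge
import Groth.Agent.IsoTorusPts.Points
/-!
An unramified normal domain splitting an isotrivial torus over a discrete valuation ring.
-/

set_option autoImplicit false
set_option backward.isDefEq.respectTransparency false
set_option backward.isDefEq.respectTransparency.types false
set_option linter.style.haveILetI false

universe u

open CategoryTheory CategoryTheory.Limits MonoidalCategory CartesianMonoidalCategory AlgebraicGeometry TensorProduct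
open scoped MonObj TensorProduct

noncomputable section

namespace Groth.Agent.IsoTorusPts

section Alg

variable (A : Type u) [CommRing A] [IsDomain A] [IsDiscreteValuationRing A]

/-- The subalgebra generated by the images of a finite unramified algebra in a separable closure. -/
theorem exists_galois_domain (B₀ : Type u) [CommRing B₀] [Algebra A B₀] [Module.Finite A B₀]
    [Algebra.FormallyUnramified A B₀] [Module.Flat A B₀] [Nontrivial B₀] :
    ∃ (B : Type u) (_ : CommRing B) (_ : IsDomain B) (_ : Algebra A B),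
      Module.Finite A B ∧ Algebra.FormallyUnramified A B ∧ Module.Flat A B ∧ Nonempty (B₀ →ₐ[A] B) ∧
      ∃ G : Subgroup (B ≃ₐ[A] B), Finite G ∧ ∀ b : B, (∀ σ ∈ G, σ b = b) → b ∈ (algebraMap A B).range := by
  classical
  let K := FractionRing A
  let Ω := SeparableClosure K
  haveI : IsGalois K Ω := inferInstance
  haveI : IsSepClosed Ω := inferInstance
  haveI : FaithfulSMul A Ω := by
    rw [faithfulSMul_iff_algebraMap_injective, IsScalarTower.algebraMap_eq A K Ω]
    exact (algebraMap K Ω).injective.comp (IsFractionRing.injective A K)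
  -- homomorphisms to `Ω`
  haveI : Finite ((K ⊗[A] B₀) →ₐ[K] Ω) := Fintype.finite (minpoly.AlgHom.fintype K (K ⊗[A] B₀) Ω)
  haveI hfinH : Finite (B₀ →ₐ[A] Ω) := Finite.of_injective
    (fun f => (Algebra.TensorProduct.lift (Algebra.ofId K Ω) f fun _ _ => Commute.all _ _ : K ⊗[A] B₀ →ₐ[K] Ω))
    fun f g h => AlgHom.ext fun b => by simpa using DFunLike.congr_fun h ((1 : K) ⊗ₜ b)
  have hne : Nonempty (B₀ →ₐ[A] Ω) := by
    haveI : Module.Free A B₀ := Module.free_of_flat_of_isLocalRing
    haveI : Nontrivial (K ⊗[A] B₀) := by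
      refine (Algebra.TensorProduct.includeRight_injective (R := A) (A := K) (B := B₀) ?_).nontrivial
      exact IsFractionRing.injective A K
    obtain ⟨P, hP⟩ := Ideal.exists_maximal (K ⊗[A] B₀)
    letI : Field ((K ⊗[A] B₀) ⧸ P) := Ideal.Quotient.field P
    haveI : Algebra.FormallyUnramified K ((K ⊗[A] B₀) ⧸ P) :=
      Algebra.FormallyUnramified.of_surjective (Ideal.Quotient.mkₐ K P) Ideal.Quotient.mk_surjective
    haveI : Algebra.IsSeparable K ((K ⊗[A] B₀) ⧸ P) := Algebra.FormallyUnramified.isSeparable K _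
    exact ⟨((IsSepClosed.lift : (K ⊗[A] B₀) ⧸ P →ₐ[K] Ω).comp (Ideal.Quotient.mkₐ K P)).restrictScalars A |>.comp
      Algebra.TensorProduct.includeRight⟩
  -- the algebra
  have hsup : ∀ s : Finset (B₀ →ₐ[A] Ω),
      Module.Finite A (s.sup AlgHom.range : Subalgebra A Ω) ∧ Algebra.FormallyUnramified A (s.sup AlgHom.range : Subalgebra A Ω) := by
    intro s
    induction s using Finset.induction with
    | empty =>
      rw [Finset.sup_empty]
      exact ⟨inferInstance, Algebra.FormallyUnramified.of_surjective (Algebra.ofId A (⊥ : Subalgebra A Ω))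
        fun x => by obtain ⟨a, ha⟩ := Algebra.mem_bot.1 x.2; exact ⟨a, Subtype.ext ha⟩⟩
    | insert f t _ ih =>
      rw [Finset.sup_insert]
      obtain ⟨h1, h2⟩ := ih
      let g : B₀ ⊗[A] (t.sup AlgHom.range : Subalgebra A Ω) →ₐ[A] Ω :=
        Algebra.TensorProduct.lift f (t.sup AlgHom.range).val fun _ _ => Commute.all _ _
      have hg : g.range = f.range ⊔ t.sup AlgHom.range := by
        rw [show g = Algebra.TensorProduct.productMap f (t.sup AlgHom.range).val from rfl,
          Algebra.TensorProduct.productMap_range, Subalgebra.range_val]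
      haveI : Algebra.FormallyUnramified A (B₀ ⊗[A] (t.sup AlgHom.range : Subalgebra A Ω)) :=
        Algebra.FormallyUnramified.comp A B₀ _
      rw [← hg]
      exact ⟨Module.Finite.of_surjective g.rangeRestrict.toLinearMap g.rangeRestrict_surjective,
        Algebra.FormallyUnramified.of_surjective g.rangeRestrict g.rangeRestrict_surjective⟩
  haveI : Fintype (B₀ →ₐ[A] Ω) := Fintype.ofFinite _
  let B : Subalgebra A Ω := (Finset.univ : Finset (B₀ →ₐ[A] Ω)).sup AlgHom.range
  obtain ⟨hBf, hBu⟩ := hsup Finset.univ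
  have hle : ∀ f : B₀ →ₐ[A] Ω, f.range ≤ B := fun f => Finset.le_sup (Finset.mem_univ f)
  have hstab : ∀ (σ : Ω ≃ₐ[K] Ω) (x : Ω), x ∈ B → σ x ∈ B := by
    intro σ x hx
    have : B ≤ B.comap (σ.toAlgHom.restrictScalars A) := by
      refine Finset.sup_le fun f _ => ?_
      rintro _ ⟨b, rfl⟩
      exact hle ((σ.toAlgHom.restrictScalars A).comp f) ⟨b, rfl⟩
    exact this hx
  let r : (Ω ≃ₐ[K] Ω) → (B ≃ₐ[A] B) := fun σ =>
    AlgEquiv.ofAlgHom (((σ.toAlgHom.restrictScalars A).comp B.val).codRestrict B fun x => hstab σ x x.2)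
      (((σ.symm.toAlgHom.restrictScalars A).comp B.val).codRestrict B fun x => hstab σ.symm x x.2)
      (AlgHom.ext fun x => Subtype.ext (σ.apply_symm_apply x.1))
      (AlgHom.ext fun x => Subtype.ext (σ.symm_apply_apply x.1))
  let ρ : (Ω ≃ₐ[K] Ω) →* (B ≃ₐ[A] B) :=
    { toFun := r, map_one' := rfl, map_mul' := fun σ τ => rfl }
  haveI : Finite (B →ₐ[A] Ω) := by
    refine Finite.of_injective (fun (g : B →ₐ[A] Ω) (f : B₀ →ₐ[A] Ω) => g.comp (f.codRestrict B fun b => hle f ⟨b, rfl⟩)) ?_
    intro g g' h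
    have hB : B ≤ (AlgHom.equalizer g g').map B.val := by
      refine Finset.sup_le fun f _ => ?_
      rintro _ ⟨b, rfl⟩
      exact ⟨⟨f b, hle f ⟨b, rfl⟩⟩, DFunLike.congr_fun (congrFun h f) b, rfl⟩
    refine AlgHom.ext fun x => ?_
    obtain ⟨y, hy, hyx⟩ := hB x.2
    rwa [show x = y from Subtype.ext hyx.symm]
  haveI : Finite (B ≃ₐ[A] B) := Finite.of_injective (fun e => B.val.comp e.toAlgHom) fun e e' h =>
    AlgEquiv.ext fun x => Subtype.ext (DFunLike.congr_fun h x)
  haveI : Module.Flat A B := by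
    haveI : Module.IsTorsionFree A B := inferInstance
    infer_instance
  refine ⟨B, inferInstance, inferInstance, inferInstance, hBf, hBu, inferInstance,
    hne.map (fun f => f.codRestrict B fun b => hle f ⟨b, rfl⟩), ρ.range, inferInstance, fun b hb => ?_⟩
  have hb' : (b : Ω) ∈ (⊥ : IntermediateField K Ω) := by
    rw [InfiniteGalois.mem_bot_iff_fixed]
    exact fun σ => congrArg Subtype.val (hb (ρ σ) ⟨σ, rfl⟩)
  obtain ⟨k, hk⟩ := IntermediateField.mem_bot.1 hb'
  have hint : IsIntegral A k := by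
    refine (isIntegral_algHom_iff (IsScalarTower.toAlgHom A K Ω) (algebraMap K Ω).injective).1 ?_
    show IsIntegral A (algebraMap K Ω k)
    rw [hk]
    exact (Algebra.IsIntegral.isIntegral b).map B.val
  obtain ⟨a, ha⟩ := IsIntegrallyClosed.isIntegral_iff.1 hint
  exact ⟨a, Subtype.ext (by rw [← hk, ← ha, ← IsScalarTower.algebraMap_apply]; rfl)⟩

end Alg

variable (A : Type u) [CommRing A] [IsDomain A] [IsDiscreteValuationRing A]

/-- An isotrivial torus is affine and split by an unramified normal domain. -/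
theorem exists_galois_chart (T : Over (Spec (CommRingCat.of A))) [GrpObj T]
    (hT : ∃ r : ℕ, TwC.Locally (Spec (CommRingCat.of A)) .finiteEtale
        (fun S' g => Red.IsSplitTorusWith (Fin r → ℤ) (Red.bc g T))) :
    IsAffine T.left ∧ ∃ (r : ℕ) (B : Type u) (_ : CommRing B) (_ : IsDomain B) (_ : Algebra A B),
      Module.Finite A B ∧ Algebra.FormallyUnramified A B ∧ Module.Flat A B ∧ Nonempty (Chart T B (Fin r → ℤ)) ∧
      ∃ G : Subgroup (B ≃ₐ[A] B), Finite G ∧ ∀ b : B, (∀ σ ∈ G, σ b = b) → b ∈ (algebraMap A B).range := by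
  obtain ⟨r, S', f, hfin, het, hsurj, hloc⟩ := hT
  haveI := hfin
  haveI := het
  obtain ⟨s, hs⟩ := hsurj.surj (IsLocalRing.closedPoint A)
  obtain ⟨U, hsU, hUc, e⟩ := hloc s
  haveI : IsAffine S' := isAffine_of_isAffineHom f
  haveI : IsClosedImmersion U.ι := .of_isPreimmersion _ (by rwa [U.range_ι])
  haveI : IsAffine (U : Scheme.{u}) := isAffine_of_isAffineHom U.ι
  let φ := Spec.preimage ((U : Scheme.{u}).isoSpec.inv ≫ U.ι ≫ f)
  have hφ : Spec.map φ = (U : Scheme.{u}).isoSpec.inv ≫ U.ι ≫ f := Spec.map_preimage _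
  let B₀ : Type u := Γ(U, ⊤)
  letI : Algebra A B₀ := φ.hom.toAlgebra
  haveI hBf : IsFinite (Spec.map φ) := by rw [hφ]; infer_instance
  haveI hBe : Etale (Spec.map φ) := by rw [hφ]; infer_instance
  haveI : Module.Finite A B₀ := RingHom.finite_algebraMap.1 ((IsFinite.SpecMap_iff φ).1 hBf)
  haveI : Algebra.Etale A B₀ := RingHom.etale_algebraMap.1 ((HasRingHomProperty.Spec_iff (P := @Etale)).1 hBe)
  haveI : Nontrivial B₀ :=
    PrimeSpectrum.nonempty_iff_nontrivial.1 ⟨(U : Scheme.{u}).isoSpec.hom (⟨s, hsU⟩ : (U : Scheme.{u}))⟩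
  obtain ⟨B, _, _, _, h1, h2, h3, ⟨g⟩, hG⟩ := exists_galois_domain A B₀
  let b : Spec (CommRingCat.of B) ⟶ (U : Scheme.{u}) :=
    Spec.map (CommRingCat.ofHom g.toRingHom) ≫ (U : Scheme.{u}).isoSpec.inv
  have hb : b ≫ U.ι ≫ f = Spec.map (CommRingCat.ofHom (algebraMap A B)) := by
    show (Spec.map _ ≫ _) ≫ _ = _
    rw [Category.assoc, ← hφ, ← Spec.map_comp]
    exact congrArg (fun h => Spec.map (CommRingCat.ofHom h)) g.comp_algebraMap
  have hsplit : Red.IsSplitTorusWith (Fin r → ℤ) (Red.bc (Spec.map (CommRingCat.ofHom (algebraMap A B))) T) := by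
    rw [← hb]
    obtain ⟨e⟩ := e
    exact ⟨(HomDesc.bcGrpIso b (U.ι ≫ f) rfl T).symm ≪≫ (Over.pullback b).mapGrp.mapIso e ≪≫
      HomDesc.bcGrpIso b _ (Limits.IsTerminal.hom_ext specULiftZIsTerminal _ _) (Red.diag (ULift.{u} ℤ) (Fin r → ℤ))⟩
  refine ⟨?_, r, B, inferInstance, inferInstance, inferInstance, h1, h2, h3, ?_, hG⟩
  · obtain ⟨eB⟩ := hsplit
    let p := Spec.map (CommRingCat.ofHom (algebraMap A B))
    have h : IsAffineHom (Red.bc p T).hom :=
      @FixedSmooth.hom_of_grpIso _ _ _ _ _ eB @IsAffineHom _ (FixedSmooth.isAffineHom_DS _ _)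
    haveI : Flat p := by
      rw [HasRingHomProperty.Spec_iff (P := @Flat)]
      exact RingHom.flat_algebraMap_iff.2 h3
    haveI : Surjective p := by
      haveI : Module.Free A B := Module.free_of_flat_of_isLocalRing
      exact ⟨PrimeSpectrum.comap_surjective_of_faithfullyFlat⟩
    haveI := FpqcDesc.isAffineHom_descends.{u}
    haveI : IsAffineHom T.hom :=
      MorphismProperty.of_pullback_snd_of_descendsAlong (P := @IsAffineHom)
        (Q := (@Surjective ⊓ @Flat ⊓ @QuasiCompact : MorphismProperty Scheme.{u})) ⟨⟨inferInstance, inferInstance⟩, inferInstance⟩ h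
    exact isAffine_of_isAffineHom T.hom
  · obtain ⟨eB⟩ := hsplit
    exact nonempty_chart eB

end Groth.Agent.IsoTorusPts
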