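import Groth.Agent.IsoTorusPts.Adic
/-!
The discrete valuation ring over the completion cut out by a prime of an unramified extension.
-/

set_option autoImplicit false
set_option linter.style.haveILetI false

universe u

open IsDedekindDomain TensorProduct
open scoped TensorProduct

noncomputable section

namespace Groth.Agent.IsoTorusPts

/-- A Noetherian local ring with maximal ideal generated by a non-zero-divisor is a DVR. -/
theorem isDVR_of_span (E : Type u) [CommRing E] [IsLocalRing E] [IsNoetherianRing E] {p : E}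
    (hp : IsLocalRing.maximalIdeal E = Ideal.span {p}) (hreg : ∀ x, p * x = 0 → x = 0) :
    ∃ _ : IsDomain E, IsDiscreteValuationRing E ∧ Irreducible p := by
  classical
  have hp0 : p ≠ 0 := fun h => one_ne_zero (hreg 1 (by rw [h, zero_mul]))
  have hpu : ¬ IsUnit p := by
    rw [← mem_nonunits_iff, ← IsLocalRing.mem_maximalIdeal, hp]
    exact Ideal.mem_span_singleton_self p
  have hex : ∀ x : E, x ≠ 0 → ∃ (n : ℕ) (w : Eˣ), x = p ^ n * w := by
    intro x hx
    have hbd : ∃ n, ¬ p ^ n ∣ x := by
      by_contra h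
      push Not at h
      have hmem : x ∈ ⨅ n : ℕ, IsLocalRing.maximalIdeal E ^ n :=
        Submodule.mem_iInf _ |>.2 fun n => by rw [hp, Ideal.span_singleton_pow, Ideal.mem_span_singleton]; exact h n
      rw [Ideal.iInf_pow_eq_bot_of_isLocalRing _ (IsLocalRing.maximalIdeal.isMaximal E).ne_top] at hmem
      exact hx hmem
    obtain ⟨k, hk⟩ : ∃ k, Nat.find hbd = k + 1 :=
      Nat.exists_eq_succ_of_ne_zero fun h => Nat.find_spec hbd (by rw [h, pow_zero]; exact one_dvd x)
    obtain ⟨c, hc⟩ : p ^ k ∣ x := not_not.1 (Nat.find_min hbd (m := k) (by omega))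
    have hcu : IsUnit c := by
      by_contra hcu
      rw [← mem_nonunits_iff, ← IsLocalRing.mem_maximalIdeal, hp, Ideal.mem_span_singleton] at hcu
      obtain ⟨d, rfl⟩ := hcu
      exact Nat.find_spec hbd ⟨d, by rw [hk, pow_succ, mul_assoc]; exact hc⟩
    exact ⟨k, hcu.unit, hc⟩
  have hpow : ∀ n x, p ^ n * x = 0 → x = 0 := by
    intro n
    induction n with
    | zero => simp
    | succ n ih => exact fun x h => hreg x (ih _ (by rw [← mul_assoc, ← pow_succ]; exact h))
  haveI : NoZeroDivisors E := ⟨fun {a b} h => by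
    by_contra hne
    push Not at hne
    obtain ⟨i, wa, rfl⟩ := hex a hne.1
    obtain ⟨k, wb, rfl⟩ := hex b hne.2
    refine one_ne_zero (hpow (i + k) 1 ?_)
    rw [mul_mul_mul_comm, ← pow_add, ← Units.val_mul] at h
    rw [mul_one, ← (wa * wb).mul_left_eq_zero, h]⟩
  haveI : IsDomain E := NoZeroDivisors.to_isDomain E
  have hirr : Irreducible p := by
    refine Prime.irreducible ((Ideal.span_singleton_prime hp0).1 ?_)
    rw [← hp]
    exact (IsLocalRing.maximalIdeal.isMaximal E).isPrime
  exact ⟨inferInstance, IsDiscreteValuationRing.ofHasUnitMulPowIrreducibleFactorization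
    ⟨p, hirr, fun {x} hx => by obtain ⟨n, w, rfl⟩ := hex x hx; exact ⟨n, w, rfl⟩⟩, hirr⟩

variable (A : Type u) [CommRing A] [IsDomain A] [IsDiscreteValuationRing A] (v : HeightOneSpectrum A)
  (K : Type u) [Field K] [Algebra A K] [IsFractionRing A K]

local notation "O" => v.adicCompletionIntegers K

/-- The local ring over the completion at a prime of `B`, with the action of the stabiliser. -/
theorem exists_local {π : A} (hπ : Irreducible π) (B : Type u) [CommRing B] [IsDomain B] [Algebra A B] [Module.Finite A B]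
    [Algebra.FormallyUnramified A B] [Module.Flat A B] :
    ∃ (E : Type u) (_ : CommRing E) (_ : IsDomain E) (_ : IsDiscreteValuationRing E) (_ : Algebra A E)
      (ιO : O →ₐ[A] E) (ιB : B →ₐ[A] E) (w : Ideal B),
      w.IsMaximal ∧ algebraMap A B π ∈ w ∧ Irreducible (algebraMap A E π) ∧ Function.Injective ιO ∧
      Function.Injective ιB ∧ (∀ z : O, IsUnit (ιO z) → IsUnit z) ∧
      (∀ b : B, IsUnit (ιB b) ↔ b ∉ w) ∧
      ∀ σ : B ≃ₐ[A] B, w.comap σ.toAlgHom = w →
        ∃ σ' : E →ₐ[A] E, σ'.comp ιO = ιO ∧ σ'.comp ιB = ιB.comp σ.toAlgHom ∧ Function.Injective σ' := by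
  classical
  let R := O ⊗[A] B
  haveI : Module.Free A B := Module.free_of_flat_of_isLocalRing
  haveI : Nontrivial B := inferInstance
  haveI : Algebra.IsIntegral O R := Algebra.IsIntegral.of_finite O R
  haveI : Nontrivial R := by
    refine (Algebra.TensorProduct.includeRight_injective (R := A) (A := O) (B := B) ?_).nontrivial
    exact FaithfulSMul.algebraMap_injective A O
  obtain ⟨M, hM⟩ := Ideal.exists_maximal R
  let E := Localization.AtPrime M
  haveI : IsNoetherianRing R := IsNoetherianRing.of_finite O R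
  haveI : IsNoetherianRing E := IsLocalization.isNoetherianRing M.primeCompl E inferInstance
  let iO : O →ₐ[A] R := Algebra.TensorProduct.includeLeft
  let iB : B →ₐ[A] R := Algebra.TensorProduct.includeRight
  let w : Ideal B := M.comap iB
  -- the maximal ideal over the completion
  have hcm : M.comap (algebraMap O R) = IsLocalRing.maximalIdeal O :=
    IsLocalRing.eq_maximalIdeal (Ideal.isMaximal_comap_of_isIntegral_of_isMaximal (R := O) M)
  have hπO : algebraMap A O π ∈ IsLocalRing.maximalIdeal O := not_isUnit_uniformizer A v K hπ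
  have hπM : algebraMap A R π ∈ M := by
    have : algebraMap A O π ∈ M.comap (algebraMap O R) := hcm ▸ hπO
    rw [IsScalarTower.algebraMap_apply A O R]
    exact this
  have hπw : algebraMap A B π ∈ w := by
    show iB _ ∈ M
    rw [AlgHom.commutes]; exact hπM
  haveI hwp : w.IsPrime := Ideal.IsPrime.comap iB
  have hwmax : w.IsMaximal := by
    haveI : Algebra.IsIntegral A B := inferInstance
    refine Ideal.isMaximal_of_isIntegral_of_isMaximal_comap (R := A) w ?_
    have hle : Ideal.span {π} ≤ w.comap (algebraMap A B) := (Ideal.span_singleton_le_iff_mem _).2 hπw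
    rw [← hπ.maximalIdeal_eq] at hle
    rw [← (IsLocalRing.maximalIdeal.isMaximal A).eq_of_le (Ideal.comap_ne_top _ hwp.ne_top) hle]
    infer_instance
  have hdec : ∀ z : R, ∃ b : B, z - iB b ∈ Ideal.span {algebraMap A R π} := by
    intro z
    induction z using TensorProduct.induction_on with
    | zero => exact ⟨0, by simp⟩
    | add x y hx hy =>
      obtain ⟨a, ha⟩ := hx
      obtain ⟨c, hc⟩ := hy
      exact ⟨a + c, by rw [map_add, add_sub_add_comm]; exact add_mem ha hc⟩
    | tmul o b =>
      obtain ⟨a, c, hc⟩ := exists_sub_dvd A v K hπ o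
      refine ⟨a • b, Ideal.mem_span_singleton.2 ⟨c ⊗ₜ b, ?_⟩⟩
      show o ⊗ₜ b - (1 : O) ⊗ₜ (a • b) = _
      rw [← TensorProduct.smul_tmul, ← TensorProduct.sub_tmul, Algebra.smul_def, mul_one, hc,
        Algebra.TensorProduct.algebraMap_apply, Algebra.TensorProduct.tmul_mul_tmul, one_mul]
  have hmem : ∀ (z : R) (b : B), z - iB b ∈ Ideal.span {algebraMap A R π} → (z ∈ M ↔ b ∈ w) := by
    intro z b h
    have h' : z - iB b ∈ M := (Ideal.span_singleton_le_iff_mem _).2 hπM h
    refine ⟨fun hz => ?_, fun hb => ?_⟩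
    · show iB b ∈ M
      simpa using sub_mem hz h'
    · have hb' : iB b ∈ M := hb
      simpa using add_mem h' hb' 
  -- the DVR
  haveI : Algebra.FormallyUnramified O E :=
    haveI : Algebra.FormallyUnramified R E := Algebra.FormallyUnramified.of_isLocalization M.primeCompl
    Algebra.FormallyUnramified.comp O R E
  haveI : Algebra.EssFiniteType O E :=
    haveI : Algebra.EssFiniteType R E := Algebra.EssFiniteType.of_isLocalization E M.primeCompl
    Algebra.EssFiniteType.comp O R E
  haveI : IsLocalHom (algebraMap O E) := by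
    refine ⟨fun z hz => ?_⟩
    by_contra hzu
    have hzM : algebraMap O R z ∈ M := by
      have : z ∈ M.comap (algebraMap O R) := hcm ▸ hzu
      exact this
    rw [IsScalarTower.algebraMap_apply O R E] at hz
    exact (IsLocalization.AtPrime.isUnit_to_map_iff E M _).1 hz hzM
  have hmaxE : IsLocalRing.maximalIdeal E = Ideal.span {algebraMap A E π} := by
    rw [← Algebra.FormallyUnramified.map_maximalIdeal (R := O) (S := E)]
    refine le_antisymm (Ideal.map_le_iff_le_comap.2 fun z hz => ?_) ((Ideal.span_singleton_le_iff_mem _).2 ?_)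
    · obtain ⟨c, rfl⟩ := dvd_of_not_isUnit A v K hπ z hz
      rw [Ideal.mem_comap, map_mul, ← IsScalarTower.algebraMap_apply A O E]
      exact Ideal.mul_mem_right _ _ (Ideal.mem_span_singleton_self _)
    · rw [IsScalarTower.algebraMap_apply A O E]
      exact Ideal.mem_map_of_mem _ hπO
  have hreg : ∀ x : E, algebraMap A E π * x = 0 → x = 0 := by
    have hR : IsSMulRegular R (algebraMap A O π) := by
      haveI : Module.Free O R := inferInstance
      haveI : Module.IsTorsionFree O R := inferInstance
      exact fun a b h => smul_right_injective R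
        (fun h0 : algebraMap A O π = 0 => hπ.ne_zero (FaithfulSMul.algebraMap_injective A O (h0.trans (map_zero _).symm))) h
    intro x hx
    obtain ⟨⟨a, s⟩, hxs⟩ := IsLocalization.surj M.primeCompl x
    have h1 : algebraMap R E (algebraMap A R π * a) = 0 := by
      rw [map_mul, ← IsScalarTower.algebraMap_apply A R E, ← hxs, ← mul_assoc, hx, zero_mul]
    obtain ⟨t, ht⟩ := (IsLocalization.map_eq_zero_iff M.primeCompl E _).1 h1
    have h2 : (t : R) * a = 0 := hR (show algebraMap A O π • ((t : R) * a) = algebraMap A O π • 0 by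
      rw [smul_zero, Algebra.smul_def, ← IsScalarTower.algebraMap_apply A O R, mul_left_comm, ht])
    have h3 : algebraMap R E a = 0 := (IsLocalization.map_eq_zero_iff M.primeCompl E _).2 ⟨t, h2⟩
    rw [h3] at hxs
    exact (IsLocalization.map_units E s).mul_left_eq_zero.1 hxs
  obtain ⟨hdom, hdvr, hirr⟩ := isDVR_of_span E hmaxE hreg
  haveI := hdom
  haveI := hdvr
  let ιO : O →ₐ[A] E := IsScalarTower.toAlgHom A O E
  let ιB : B →ₐ[A] E := (IsScalarTower.toAlgHom A R E).comp iB
  have hAE : Function.Injective (algebraMap A E) := by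
    refine (injective_iff_map_eq_zero _).2 fun a ha => ?_
    by_contra ha0
    obtain ⟨n, u, rfl⟩ := IsDiscreteValuationRing.eq_unit_mul_pow_irreducible ha0 hπ
    rw [map_mul, map_pow] at ha
    exact hirr.ne_zero (eq_zero_of_pow_eq_zero ((u.isUnit.map (algebraMap A E)).mul_right_eq_zero.1 ha))
  have hinjB : Function.Injective ιB := by
    refine (injective_iff_map_eq_zero _).2 fun b hb => ?_
    have hk : RingHom.ker (ιB : B →+* E) = ⊥ := by
      haveI : (RingHom.ker (ιB : B →+* E)).IsPrime := RingHom.ker_isPrime _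
      refine Ideal.eq_bot_of_comap_eq_bot (R := A) ((eq_bot_iff).2 fun a ha => ?_)
      rw [Ideal.mem_comap, RingHom.mem_ker] at ha
      exact (injective_iff_map_eq_zero _).1 hAE a ((ιB.commutes a).symm.trans ha)
    have : b ∈ RingHom.ker (ιB : B →+* E) := hb
    rwa [hk] at this
  have hinjO : Function.Injective ιO := by
    refine (injective_iff_map_eq_zero _).2 fun z hz => ?_
    by_contra hz0
    obtain ⟨n, hn⟩ := IsDiscreteValuationRing.associated_pow_irreducible hz0
      (show Irreducible (algebraMap A O π) from (IsDiscreteValuationRing.irreducible_iff_uniformizer _).2 (le_antisymm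
        (fun y hy => Ideal.mem_span_singleton.2 (dvd_of_not_isUnit A v K hπ y hy))
        ((Ideal.span_singleton_le_iff_mem _).2 hπO)))
    obtain ⟨u, hu⟩ := hn.symm
    rw [← hu, map_mul, map_pow, AlgHom.commutes] at hz
    exact hirr.ne_zero (eq_zero_of_pow_eq_zero ((u.isUnit.map ιO).mul_left_eq_zero.1 hz))
  refine ⟨E, inferInstance, hdom, hdvr, inferInstance, ιO, ιB, w, hwmax, hπw, hirr, hinjO, hinjB,
    fun z hz => (isUnit_map_iff (algebraMap O E) z).1 hz, fun b => IsLocalization.AtPrime.isUnit_to_map_iff E M (iB b),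
    fun σ hσ => ?_⟩
  let s : R →ₐ[A] R := Algebra.TensorProduct.map (AlgHom.id A O) σ.toAlgHom
  have hsB : ∀ b, s (iB b) = iB (σ b) := fun b => Algebra.TensorProduct.map_tmul _ _ (1 : O) b
  have hsO : ∀ z, s (algebraMap O R z) = algebraMap O R z := fun z => by
    show Algebra.TensorProduct.map (AlgHom.id A O) σ.toAlgHom (z ⊗ₜ[A] (1 : B)) = z ⊗ₜ[A] (1 : B)
    rw [Algebra.TensorProduct.map_tmul, map_one]
    rfl
  have hsM : ∀ z, s z ∈ M ↔ z ∈ M := by
    intro z
    obtain ⟨b, hb⟩ := hdec z
    have hb' : s z - iB (σ b) ∈ Ideal.span {algebraMap A R π} := by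
      obtain ⟨c, hc⟩ := Ideal.mem_span_singleton.1 hb
      refine Ideal.mem_span_singleton.2 ⟨s c, ?_⟩
      rw [← hsB, ← map_sub, hc, map_mul, AlgHom.commutes]
    rw [hmem _ _ hb', hmem _ _ hb]
    exact Iff.of_eq (congrArg (b ∈ ·) hσ)
  have hunit : ∀ y : M.primeCompl, IsUnit (((IsScalarTower.toAlgHom A R E).comp s) y) := fun y =>
    (IsLocalization.AtPrime.isUnit_to_map_iff E M _).2 fun h => y.2 ((hsM _).1 h)
  let σ' : E →ₐ[A] E := IsLocalization.liftAlgHom hunit
  have hσ'R : ∀ z : R, σ' (algebraMap R E z) = algebraMap R E (s z) := fun z => IsLocalization.lift_eq _ _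
  have hO : σ'.comp ιO = ιO := AlgHom.ext fun z => by
    show σ' (algebraMap O E z) = algebraMap O E z
    rw [IsScalarTower.algebraMap_apply O R E, hσ'R, hsO]
  refine ⟨σ', hO, AlgHom.ext fun b => ?_, (injective_iff_map_eq_zero _).2 fun x hx => ?_⟩
  · show σ' (algebraMap R E (iB b)) = algebraMap R E (iB (σ b))
    rw [hσ'R, hsB]
  · by_contra hx0
    obtain ⟨n, u, rfl⟩ := IsDiscreteValuationRing.eq_unit_mul_pow_irreducible hx0 hirr
    rw [map_mul, map_pow, AlgHom.commutes] at hx
    exact hirr.ne_zero (eq_zero_of_pow_eq_zero ((u.isUnit.map σ').mul_right_eq_zero.1 hx))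

end Groth.Agent.IsoTorusPts
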