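import Groth.Agent.IsoTorusPts.Galois
import Groth.Agent.IsoTorusPts.Local
import Groth.Agent.IsoTorusPts.Factor
/-!
`T(K̂) = T(Â)·T(K)` for a torus split by an unramified extension.
-/

set_option autoImplicit false
set_option backward.isDefEq.respectTransparency false
set_option backward.isDefEq.respectTransparency.types false
set_option linter.style.haveILetI false

universe u

open CategoryTheory MonoidalCategory CartesianMonoidalCategory AlgebraicGeometry IsDedekindDomain
open scoped MonObj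

noncomputable section

namespace Groth.Agent.IsoTorusPts

variable {A : Type u} [CommRing A] {T : Over (Spec (CommRingCat.of A))} [GrpObj T]
  {B : Type u} [CommRing B] [Algebra A B] {M : Type} [AddCommGroup M] (Θ : Chart T B M)

theorem liftF_apply {R R' K L : Type u} [CommRing R] [CommRing R'] [IsDomain R'] [Algebra R R'] [Field K] [Algebra R' K]
    [IsFractionRing R' K] [Algebra R K] [IsScalarTower R R' K] [Field L] [Algebra R L] (g : R' →ₐ[R] L)
    (hg : Function.Injective g) (x : R') :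
    (IsFractionRing.liftAlgHom (A := R') (K := K) hg) (algebraMap R' K x) = g x :=
  IsFractionRing.lift_algebraMap (g := (g : R' →+* L)) hg x

theorem exists_liftF {R R' K L : Type u} [CommRing R] [CommRing R'] [IsDomain R'] [Algebra R R'] [Field K] [Algebra R' K]
    [IsFractionRing R' K] [Algebra R K] [IsScalarTower R R' K] [Field L] [Algebra R L] (g : R' →ₐ[R] L)
    (hg : Function.Injective g) : ∃ s : K →ₐ[R] L, s.comp (IsScalarTower.toAlgHom R R' K) = g :=
  ⟨IsFractionRing.liftAlgHom (A := R') (K := K) hg, AlgHom.ext fun x => liftF_apply g hg x⟩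

namespace Chart

/-- The order of the characters of a point with values in a field. -/
def ordPt {F : Type u} [Field F] [Algebra A F] (o : Fˣ →* Multiplicative ℤ) (j : B →ₐ[A] F) :
    (Y A F ⟶ T) →* (Multiplicative M →* Multiplicative ℤ) where
  toFun p := o.comp (Θ.char j p).toHomUnits
  map_one' := by
    refine MonoidHom.ext fun m => ?_
    rw [MonoidHom.comp_apply, map_one, show (1 : Multiplicative M →* F).toHomUnits m = 1 from Units.ext rfl, map_one]
    rfl
  map_mul' p q := by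
    refine MonoidHom.ext fun m => ?_
    rw [MonoidHom.mul_apply, MonoidHom.comp_apply, MonoidHom.comp_apply, MonoidHom.comp_apply, ← map_mul]
    congr 1
    refine Units.ext ?_
    show Θ.char j (p * q) m = _
    rw [map_mul]
    rfl

theorem ordPt_apply {F : Type u} [Field F] [Algebra A F] (o : Fˣ →* Multiplicative ℤ) (j : B →ₐ[A] F) (p : Y A F ⟶ T)
    (m : Multiplicative M) : Θ.ordPt o j p m = o ((Θ.char j p).toHomUnits m) := rfl

variable {E F : Type u} [CommRing E] [Algebra A E] [Field F] [Algebra A F] (o : Fˣ →* Multiplicative ℤ) (e : E →ₐ[A] F)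
  (hoe : ∀ z : Eˣ, o (Units.map (e : E →* F) z) = 1)

include hoe in
theorem ordPt_pb (jE : B →ₐ[A] E) (q : Y A E ⟶ T) : Θ.ordPt o (e.comp jE) (pb T e q) = 1 := by
  refine MonoidHom.ext fun m => ?_
  rw [ordPt_apply, MonoidHom.one_apply, ← hoe ((Θ.char jE q).toHomUnits m)]
  congr 1
  refine Units.ext ?_
  show Θ.char (e.comp jE) (pb T e q) m = e (Θ.char jE q m)
  rw [Θ.char_pb]
  rfl

theorem exists_of_ordPt (he : Function.Injective e) (hker : ∀ z : Fˣ, o z = 1 → ∃ w : Eˣ, e w = z) (jE : B →ₐ[A] E)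
    (p : Y A F ⟶ T) (hp : Θ.ordPt o (e.comp jE) p = 1) : ∃ q : Y A E ⟶ T, pb T e q = p := by
  have h : ∀ m, ∃ w : Eˣ, e w = Θ.char (e.comp jE) p m := fun m => hker _ (DFunLike.congr_fun hp m)
  choose f hf using h
  let χ : Multiplicative M →* E :=
    { toFun := fun m => f m
      map_one' := he (by rw [hf, map_one, map_one])
      map_mul' := fun a b => he (by rw [hf, map_mul, map_mul, hf, hf]) }
  refine ⟨Θ.pt jE χ, ?_⟩
  rw [Θ.nat, show (e : E →* F).comp χ = Θ.char (e.comp jE) p from MonoidHom.ext hf]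
  exact (Θ.pt (e.comp jE)).apply_symm_apply p

theorem ordPt_gen (w : M →+ ℤ) (j : B →ₐ[A] F) (u : Fˣ) (m : Multiplicative M) :
    Θ.ordPt o j (Θ.gen w j u) m = o u ^ w m.toAdd := by
  rw [ordPt_apply, ← map_zpow]
  congr 1
  refine Units.ext ?_
  show Θ.char j (Θ.gen w j u) m = _
  rw [Θ.char_gen, pw_apply]

end Chart

variable [IsDomain A] [IsDiscreteValuationRing A]

theorem mem_range_of_fixed [IsDomain B] [Module.Finite A B] (hinjA : Function.Injective (algebraMap A B)) (G : Subgroup (B ≃ₐ[A] B))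
    (hG : ∀ b : B, (∀ σ ∈ G, σ b = b) → b ∈ (algebraMap A B).range)
    (z : FractionRing B)
    (hz : ∀ σ ∈ G, ∀ τ : FractionRing B →ₐ[A] FractionRing B,
      (∀ b, τ (algebraMap B _ b) = algebraMap B _ (σ b)) → τ z = z)
    (iL : FractionRing A →ₐ[A] FractionRing B) : ∃ k, iL k = z := by
  obtain ⟨b, s, hs, hbs⟩ := IsFractionRing.div_surjective (A := B) z
  have hs0 : s ≠ 0 := nonZeroDivisors.ne_zero hs
  haveI : Nontrivial A := inferInstance
  obtain ⟨a, ha, ha0⟩ := Submodule.exists_mem_ne_zero_of_ne_bot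
    (Ideal.comap_ne_bot_of_integral_mem (R := A) (I := Ideal.span {s}) hs0 (Ideal.mem_span_singleton_self s)
      (Algebra.IsIntegral.isIntegral s))
  obtain ⟨r, hr⟩ := Ideal.mem_span_singleton.1 ha
  have hinj := IsFractionRing.injective B (FractionRing B)
  have hza : z * algebraMap A (FractionRing B) a = algebraMap B _ (b * r) := by
    rw [IsScalarTower.algebraMap_apply A B (FractionRing B), hr, ← hbs, map_mul, map_mul, ← mul_assoc,
      div_mul_cancel₀ _ ((map_ne_zero_iff _ hinj).2 hs0)]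
  obtain ⟨a', ha'⟩ := hG (b * r) fun σ hσ => by
    let τ : FractionRing B →ₐ[A] FractionRing B :=
      IsFractionRing.liftAlgHom (g := (IsScalarTower.toAlgHom A B (FractionRing B)).comp σ.toAlgHom)
        (hinj.comp σ.injective)
    have hτ : ∀ b, τ (algebraMap B _ b) = algebraMap B _ (σ b) := fun b => liftF_apply _ _ b
    apply hinj
    rw [← hτ, ← hza, map_mul, hz σ hσ τ hτ, AlgHom.commutes]
  have ha1 : algebraMap A (FractionRing B) a ≠ 0 := by
    rw [IsScalarTower.algebraMap_apply A B (FractionRing B)]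
    exact fun h => ha0 (hinjA ((hinj (h.trans (map_zero _).symm)).trans (map_zero _).symm))
  refine ⟨algebraMap A _ a' / algebraMap A _ a, ?_⟩
  rw [map_div₀, AlgHom.commutes, AlgHom.commutes, div_eq_iff ha1, hza, IsScalarTower.algebraMap_apply A B (FractionRing B), ha']

/-- Invariance of `w(u)` under an automorphism fixing a point of which `w` is the order. -/
theorem Chart.gen_comp_eq [IsDomain B] {E F : Type u} [CommRing E] [Algebra A E] [Field F] [Algebra A F]
    (o : Fˣ →* Multiplicative ℤ) (eF : E →ₐ[A] F) (hoe : ∀ z : Eˣ, o (Units.map (eF : E →* F) z) = 1)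
    (hker : ∀ z : Fˣ, o z = 1 → ∃ w : Eˣ, eF w = z)
    (p : Fˣ) (hop : o p = Multiplicative.ofAdd 1) (ιB : B →ₐ[A] E) (w : M →+ ℤ) (qE : Y A E ⟶ T)
    (xF : Y A F ⟶ T) (hxF : xF = Θ.gen w (eF.comp ιB) p * pb T eF qE)
    (hw : ∀ m, Θ.ordPt o (eF.comp ιB) xF m = Multiplicative.ofAdd (w m.toAdd))
    (σ : B →ₐ[A] B) (σ' : E →ₐ[A] E) (sF : F →ₐ[A] F) (hsE : sF.comp eF = eF.comp σ') (hσB : σ'.comp ιB = ιB.comp σ)
    (hsp : sF p = p) (hsx : pb T sF xF = xF) {R : Type u} [CommRing R] [Algebra A R] (k : B →ₐ[A] R) (u : Rˣ) :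
    Θ.gen w (k.comp σ) u = Θ.gen w k u := by
  obtain ⟨n, hn⟩ := Θ.exists_exponent w σ
  have hsj : sF.comp (eF.comp ιB) = (eF.comp ιB).comp σ := by
    rw [← AlgHom.comp_assoc, hsE, AlgHom.comp_assoc, hσB]
    rfl
  have hso : ∀ z : Fˣ, o (Units.map (sF : F →* F) z) = o z := by
    intro z
    obtain ⟨z', hz'⟩ := hker (z * (p ^ (o z).toAdd)⁻¹) (by
      rw [map_mul, map_inv, map_zpow, hop, ← ofAdd_zsmul, smul_eq_mul, mul_one, ofAdd_toAdd, mul_inv_cancel])
    have hz : z = Units.map (eF : E →* F) z' * p ^ (o z).toAdd := by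
      rw [← mul_inv_eq_iff_eq_mul]; exact (Units.ext hz').symm
    have h1 : Units.map (sF : F →* F) (Units.map (eF : E →* F) z') = Units.map (eF : E →* F) (Units.map (σ' : E →* E) z') :=
      Units.ext (DFunLike.congr_fun hsE _)
    have h2 : Units.map (sF : F →* F) p = p := Units.ext hsp
    conv_lhs => rw [hz]
    rw [map_mul, map_zpow, h2, h1, map_mul, hoe, one_mul, map_zpow, hop, ← ofAdd_zsmul, smul_eq_mul, mul_one, ofAdd_toAdd]
  have hn' : ∀ m, n m = w m.toAdd := by
    intro m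
    have h1 : Θ.ordPt o ((eF.comp ιB).comp σ) (pb T sF xF) m = Θ.ordPt o (eF.comp ιB) xF m := by
      rw [← hsj, Θ.ordPt_apply, Θ.ordPt_apply, ← hso ((Θ.char (eF.comp ιB) xF).toHomUnits m)]
      congr 1
      refine Units.ext ?_
      show Θ.char (sF.comp (eF.comp ιB)) (pb T sF xF) m = sF (Θ.char (eF.comp ιB) xF m)
      rw [Θ.char_pb]
      rfl
    rw [hsx, hw, hxF, map_mul, MonoidHom.mul_apply] at h1
    have h2 : Θ.ordPt o ((eF.comp ιB).comp σ) (pb T eF qE) = 1 := Θ.ordPt_pb o eF hoe (ιB.comp σ) qE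
    rw [h2, MonoidHom.one_apply, mul_one, Θ.ordPt_apply,
      show (Θ.char ((eF.comp ιB).comp σ) (Θ.gen w (eF.comp ιB) p)).toHomUnits m = p ^ n m from Units.ext (hn _ p m),
      map_zpow, hop, ← ofAdd_zsmul, smul_eq_mul, mul_one] at h1
    exact Multiplicative.ofAdd.injective h1
  refine ((Θ.char (k.comp σ)).injective (MonoidHom.ext fun m => ?_)).symm
  rw [hn, Θ.char_gen, hn', Chart.pw_apply]

/-- The stabiliser of an ideal. -/
def stab (G : Subgroup (B ≃ₐ[A] B)) (w : Ideal B) : Subgroup G where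
  carrier := {σ | ∀ b : B, σ.1 b ∈ w ↔ b ∈ w}
  one_mem' _ := Iff.rfl
  mul_mem' {σ τ} hσ hτ b := (hσ (τ.1 b)).trans (hτ b)
  inv_mem' {σ} hσ b := by
    have := (hσ (σ.1.symm b)).symm
    rwa [AlgEquiv.apply_symm_apply] at this

/-- The product over the conjugates is a rational point. -/
theorem Chart.exists_rational [IsAffine T.left] [IsDomain B] [Module.Finite A B] (hinjA : Function.Injective (algebraMap A B))
    (G : Subgroup (B ≃ₐ[A] B)) [Finite G] (hG : ∀ b : B, (∀ σ ∈ G, σ b = b) → b ∈ (algebraMap A B).range)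
    (D : Subgroup G) (w : M →+ ℤ)
    (hinv : ∀ d ∈ D, ∀ {R : Type u} [CommRing R] [Algebra A R] (k : B →ₐ[A] R) (u : Rˣ),
      Θ.gen w (k.comp d.1.toAlgHom) u = Θ.gen w k u)
    (y : B) (hy : y ≠ 0) (hyD : ∀ d ∈ D, d.1 y = y) {E F : Type u} [CommRing E] [Algebra A E] [Field F] [Algebra A F]
    (o : Fˣ →* Multiplicative ℤ) (eF : E →ₐ[A] F) (hoe : ∀ z : Eˣ, o (Units.map (eF : E →* F) z) = 1) (ιB : B →ₐ[A] E)
    (hinj : Function.Injective (eF.comp ιB))
    (hy1 : ∀ u : Fˣ, (u : F) = eF (ιB y) → o u = Multiplicative.ofAdd 1)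
    (hyG : ∀ σ : G, σ ∉ D → IsUnit (ιB (σ.1 y))) :
    ∃ tK : Y A (FractionRing A) ⟶ T, ∀ gF : FractionRing A →ₐ[A] F,
      ∀ m, Θ.ordPt o (eF.comp ιB) (pb T gF tK) m = Multiplicative.ofAdd (w m.toAdd) := by
  classical
  let L := FractionRing B
  let iL : B →ₐ[A] L := IsScalarTower.toAlgHom A B L
  have hι : Function.Injective iL := IsFractionRing.injective B L
  let hL : L →ₐ[A] F := IsFractionRing.liftAlgHom (g := eF.comp ιB) hinj
  have hhL : hL.comp iL = eF.comp ιB := AlgHom.ext fun b => liftF_apply (eF.comp ιB) hinj b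
  have hne : ∀ σ : G, iL (σ.1 y) ≠ 0 := fun σ h => hy (σ.1.injective (hι (by rw [h, map_zero, map_zero])))
  letI : CommGroup (Y A L ⟶ T) := { (inferInstance : Group (Y A L ⟶ T)) with mul_comm := Θ.mul_comm' iL }
  letI : CommGroup (Y A F ⟶ T) := { (inferInstance : Group (Y A F ⟶ T)) with mul_comm := Θ.mul_comm' (eF.comp ιB) }
  haveI : Fintype (G ⧸ D) := Fintype.ofFinite _
  let f₀ : G → (Y A L ⟶ T) := fun σ => Θ.gen w (iL.comp σ.1.toAlgHom) (Units.mk0 _ (hne σ))
  let f : G ⧸ D → (Y A L ⟶ T) := Quotient.lift f₀ fun σ τ h => by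
    have hd : σ⁻¹ * τ ∈ D := QuotientGroup.leftRel_apply.1 h
    have hτ : τ = σ * (σ⁻¹ * τ) := (mul_inv_cancel_left σ τ).symm
    generalize σ⁻¹ * τ = d at hd hτ
    subst hτ
    show f₀ σ = f₀ (σ * d)
    refine ((congrArg (Θ.gen w _) (Units.ext ?_)).trans (hinv d hd (iL.comp σ.1.toAlgHom) _).symm)
    show iL (σ.1 y) = iL (σ.1 (d.1 y))
    rw [hyD d hd]
  have hτt : ∀ σ₀ : G, ∀ τ : L →ₐ[A] L, (∀ b, τ (algebraMap B L b) = algebraMap B L (σ₀.1 b)) →
      pb T τ (∏ q : G ⧸ D, f q) = ∏ q : G ⧸ D, f q := by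
    intro σ₀ τ hτ
    rw [map_prod]
    refine Fintype.prod_equiv (MulAction.toPerm σ₀) _ _ fun q => ?_
    induction q using QuotientGroup.induction_on with
    | H σ =>
      show pb T τ (f₀ σ) = f₀ (σ₀ * σ)
      have hc : τ.comp (iL.comp σ.1.toAlgHom) = iL.comp (σ₀ * σ).1.toAlgHom := AlgHom.ext fun b => hτ (σ.1 b)
      show pb T τ (Θ.gen w _ _) = Θ.gen w _ _
      rw [Θ.pb_gen, hc]
      exact congrArg _ (Units.ext (hτ (σ.1 y)))
  have hinjL : Function.Injective (algebraMap A L) := by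
    rw [IsScalarTower.algebraMap_eq A B L]
    exact hι.comp hinjA
  let ιKL : FractionRing A →ₐ[A] L := IsFractionRing.liftAlgHom (g := Algebra.ofId A L) hinjL
  obtain ⟨tK, htK⟩ : ∃ tK, pb T ιKL tK = ∏ q : G ⧸ D, f q :=
    exists_factor ιKL ιKL.toRingHom.injective _ fun c =>
      mem_range_of_fixed hinjA G hG _ (fun σ hσ τ hτ => by
        have h := ring_pb τ (∏ q : G ⧸ D, f q)
        rw [hτt ⟨σ, hσ⟩ τ hτ] at h
        exact (RingHom.congr_fun h c).symm) ιKL
  refine ⟨tK, fun gF m => ?_⟩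
  have hgF : gF = hL.comp ιKL := IsLocalization.algHom_ext (nonZeroDivisors A) (Subsingleton.elim _ _)
  rw [hgF, ← pb_pb, htK, map_prod, map_prod, Fintype.prod_eq_single ((1 : G) : G ⧸ D) fun q hq => ?_]
  · show Θ.ordPt o _ (pb T hL (Θ.gen w _ _)) m = _
    rw [Θ.pb_gen]
    have hc : hL.comp (iL.comp (1 : G).1.toAlgHom) = eF.comp ιB := by
      rw [← AlgHom.comp_assoc, hhL]; rfl
    rw [hc, Θ.ordPt_gen, hy1 _ (DFunLike.congr_fun hhL y), ← ofAdd_zsmul, smul_eq_mul, mul_one]
  · induction q using QuotientGroup.induction_on with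
    | H σ =>
      have hσ : σ ∉ D := fun h => hq (QuotientGroup.eq.2 (by simpa using D.inv_mem h))
      show Θ.ordPt o _ (pb T hL (f₀ σ)) = 1
      rw [show pb T hL (f₀ σ) = pb T eF (Θ.gen w (ιB.comp σ.1.toAlgHom) (hyG σ hσ).unit) from ?_]
      · exact Θ.ordPt_pb o eF hoe ιB _
      · show pb T hL (Θ.gen w _ _) = _
        rw [Θ.pb_gen, Θ.pb_gen]
        have hc : hL.comp (iL.comp σ.1.toAlgHom) = eF.comp (ιB.comp σ.1.toAlgHom) := by
          rw [← AlgHom.comp_assoc, hhL]; rfl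
        rw [hc]
        exact congrArg _ (Units.ext (DFunLike.congr_fun hhL (σ.1 y)))

/-- A uniformizer of `E` from a congruence in `B`. -/
theorem exists_unit_mul {E : Type u} [CommRing E] [IsDomain E] [IsDiscreteValuationRing E] [Algebra A E] {π : A}
    (hirr : Irreducible (algebraMap A E π)) (ιB : B →ₐ[A] E) (w0 : Ideal B)
    (hunitB : ∀ b : B, IsUnit (ιB b) ↔ b ∉ w0) (y : B) (hyπ : y - algebraMap A B π ∈ w0 ^ 2) :
    ∃ u : Eˣ, ιB y = algebraMap A E π * u := by
  have hle : w0.map ιB ≤ Ideal.span {algebraMap A E π} := Ideal.map_le_iff_le_comap.2 fun b hb => by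
    rw [Ideal.mem_comap, ← hirr.maximalIdeal_eq, IsLocalRing.mem_maximalIdeal, mem_nonunits_iff, hunitB]
    exact not_not.2 hb
  have h1 : ιB (y - algebraMap A B π) ∈ Ideal.span {algebraMap A E π} ^ 2 := by
    have := Ideal.mem_map_of_mem ιB hyπ
    rw [Ideal.map_pow] at this
    exact Ideal.pow_right_mono hle 2 this
  rw [Ideal.span_singleton_pow, Ideal.mem_span_singleton] at h1
  obtain ⟨c, hc⟩ := h1
  have hu : IsUnit (1 + algebraMap A E π * c) := by
    by_contra h
    rw [← mem_nonunits_iff, ← IsLocalRing.mem_maximalIdeal, hirr.maximalIdeal_eq] at h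
    exact hirr.not_isUnit (Ideal.span_singleton_eq_top.1 ((Ideal.eq_top_iff_one _).2
      (by simpa using sub_mem h (Ideal.mul_mem_right c _ (Ideal.mem_span_singleton_self (algebraMap A E π))))))
  refine ⟨hu.unit, ?_⟩
  rw [map_sub, AlgHom.commutes, sub_eq_iff_eq_add] at hc
  rw [hc, IsUnit.unit_spec]
  ring

omit [IsDomain A] [IsDiscreteValuationRing A] in
/-- A point of the field with values in the local ring comes from the valuation ring. -/
theorem exists_integral_point [IsAffine T.left] {O Kh E F : Type u} [CommRing O] [Algebra A O] [Field Kh] [Algebra A Kh]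
    [CommRing E] [Algebra A E] [Field F] [Algebra A F] (gO : O →ₐ[A] Kh) (hgO : Function.Injective gO)
    (hval : ∀ r : Kh, (∃ z, gO z = r) ∨ ∃ z, gO z = r⁻¹) (ιO : O →ₐ[A] E) (hloc : ∀ z, IsUnit (ιO z) → IsUnit z)
    (eF : E →ₐ[A] F) (heF : Function.Injective eF) (cF : Kh →ₐ[A] F) (hcF : ∀ z, cF (gO z) = eF (ιO z))
    (x : Y A Kh ⟶ T) (q : Y A E ⟶ T) (hq : pb T eF q = pb T cF x) : ∃ a, pb T gO a = x := by
  refine exists_factor gO hgO x fun c => ?_
  have h := RingHom.congr_fun ((ring_pb cF x).symm.trans ((congrArg ring hq.symm).trans (ring_pb eF q))) c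
  replace h : cF (ring x c) = eF (ring q c) := h
  generalize ring x c = r at h ⊢
  rcases hval r with hr | ⟨z, hz⟩
  · exact hr
  · rcases eq_or_ne r 0 with rfl | hr0
    · exact ⟨0, map_zero gO⟩
    · have h1 : ιO z * ring q c = 1 := heF (by
        rw [map_mul, map_one, ← hcF, ← h, ← map_mul, hz, inv_mul_cancel₀ hr0, map_one])
      obtain ⟨u, rfl⟩ := hloc z (IsUnit.of_mul_eq_one _ h1)
      refine ⟨(u⁻¹ : Oˣ), ?_⟩
      have h2 := congrArg gO (u.mul_inv)
      rw [map_mul, map_one, hz] at h2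
      exact (mul_right_injective₀ (inv_ne_zero hr0)) (h2.trans (inv_mul_cancel₀ hr0).symm)

/-- The decomposition of a point over the completion. -/
theorem exists_decomp [IsAffine T.left] [IsDomain B] [Module.Finite A B] [Algebra.FormallyUnramified A B] [Module.Flat A B]
    (G : Subgroup (B ≃ₐ[A] B)) [Finite G] (hG : ∀ b : B, (∀ σ ∈ G, σ b = b) → b ∈ (algebraMap A B).range)
    (v : HeightOneSpectrum A)
    (gO : v.adicCompletionIntegers (FractionRing A) →ₐ[A] v.adicCompletion (FractionRing A))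
    (hgO : ∀ z, gO z = algebraMap (v.adicCompletionIntegers (FractionRing A)) (v.adicCompletion (FractionRing A)) z)
    (gK : FractionRing A →ₐ[A] v.adicCompletion (FractionRing A))
    (x : Y A (v.adicCompletion (FractionRing A)) ⟶ T) (Θ : Chart T B M) :
    ∃ (a : Y A (v.adicCompletionIntegers (FractionRing A)) ⟶ T) (b : Y A (FractionRing A) ⟶ T),
      x = pb T gO a * pb T gK b := by
  classical
  obtain ⟨π, hπ⟩ := IsDiscreteValuationRing.exists_irreducible A
  obtain ⟨E, _, _, _, _, ιO, ιB, w0, hw0, hπw, hirr, hinjO, hinjB, hloc, hunitB, haut⟩ :=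
    exists_local A v (FractionRing A) hπ B
  haveI := hw0
  let F := FractionRing E
  let eF : E →ₐ[A] F := IsScalarTower.toAlgHom A E F
  have heF : Function.Injective eF := IsFractionRing.injective E F
  obtain ⟨p, o, hp, hop, hoe, hker⟩ := exists_ord E F hirr
  replace hoe : ∀ z : Eˣ, o (Units.map (eF : E →* F) z) = 1 := hoe
  obtain ⟨cF, hcF⟩ : ∃ cF : v.adicCompletion (FractionRing A) →ₐ[A] F, ∀ z, cF (gO z) = eF (ιO z) :=
    ⟨IsFractionRing.liftAlgHom (A := v.adicCompletionIntegers (FractionRing A)) (g := eF.comp ιO) (heF.comp hinjO),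
      fun z => by rw [hgO]; exact liftF_apply (eF.comp ιO) (heF.comp hinjO) z⟩
  have hext : ∀ s : F →ₐ[A] F, (∀ z, s (cF (gO z)) = cF (gO z)) → s.comp cF = cF := fun s hs =>
    IsLocalization.algHom_ext (nonZeroDivisors (v.adicCompletionIntegers (FractionRing A))) (AlgHom.ext fun z => by
      show s (cF (algebraMap _ _ z)) = cF (algebraMap _ _ z)
      rw [← hgO]; exact hs z)
  obtain ⟨wh, hwh⟩ : ∃ wh : M →+ ℤ, ∀ m, Θ.ordPt o (eF.comp ιB) (pb T cF x) m = Multiplicative.ofAdd (wh m.toAdd) :=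
    ⟨{ toFun := fun m => (Θ.ordPt o (eF.comp ιB) (pb T cF x) (Multiplicative.ofAdd m)).toAdd
       map_zero' := by rw [ofAdd_zero, map_one, toAdd_one]
       map_add' := fun a b => by rw [ofAdd_add, map_mul, toAdd_mul] }, fun m => rfl⟩
  obtain ⟨qE, hqE⟩ := Θ.exists_of_ordPt o eF heF hker ιB ((Θ.gen wh (eF.comp ιB) p)⁻¹ * pb T cF x) (by
    refine MonoidHom.ext fun m => ?_
    rw [map_mul, map_inv, MonoidHom.mul_apply, MonoidHom.inv_apply, Θ.ordPt_gen, hop, hwh, ← ofAdd_zsmul,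
      smul_eq_mul, mul_one, inv_mul_cancel, MonoidHom.one_apply])
  have hinv : ∀ d ∈ stab G w0, ∀ {R : Type u} [CommRing R] [Algebra A R] (k : B →ₐ[A] R) (u : Rˣ),
      Θ.gen wh (k.comp d.1.toAlgHom) u = Θ.gen wh k u := by
    intro d hd R _ _ k u
    obtain ⟨σ', hσO, hσB, hσinj⟩ := haut d.1 (Ideal.ext hd)
    obtain ⟨sF, hsE⟩ : ∃ sF : F →ₐ[A] F, sF.comp eF = eF.comp σ' :=
      exists_liftF (eF.comp σ') (heF.comp hσinj)
    refine Θ.gen_comp_eq o eF hoe hker p hop ιB wh qE (pb T cF x) (by rw [hqE, mul_inv_cancel_left]) hwh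
      d.1.toAlgHom σ' sF hsE hσB ?_ ?_ k u
    · rw [hp, ← IsScalarTower.algebraMap_apply A E F, AlgHom.commutes]
    · rw [pb_pb, hext sF fun z => by
        rw [hcF]
        exact (DFunLike.congr_fun hsE _).trans (congrArg eF (DFunLike.congr_fun hσO z))]
  obtain ⟨y, hyD, hyπ, hyG⟩ := exists_local_uniformizer G π w0
  obtain ⟨uy, huy⟩ := exists_unit_mul hirr ιB w0 hunitB y hyπ
  have hy0 : y ≠ 0 := by
    rintro rfl
    rw [map_zero] at huy
    exact mul_ne_zero hirr.ne_zero uy.ne_zero huy.symm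
  have hinjA : Function.Injective (algebraMap A B) := fun a b h => FaithfulSMul.algebraMap_injective A
    (v.adicCompletionIntegers (FractionRing A)) (hinjO (by
      rw [AlgHom.commutes, AlgHom.commutes, ← ιB.commutes a, ← ιB.commutes b, h]))
  obtain ⟨tK, htK⟩ := Θ.exists_rational hinjA G hG (stab G w0) wh hinv y hy0 (fun d hd => hyD d.1 d.2 (Ideal.ext hd))
    o eF hoe ιB (heF.comp hinjB) (fun u hu => by
      rw [show u = p * Units.map (eF : E →* F) uy from Units.ext (by
          rw [hu, huy, map_mul, Units.val_mul, hp]; rfl), map_mul, hop, hoe, mul_one])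
    (fun σ hσ => (hunitB _).2 (hyG σ.1 σ.2 fun h => hσ fun b => Ideal.ext_iff.1 h b))
  obtain ⟨z, hz⟩ := Θ.exists_of_ordPt o eF heF hker ιB (pb T cF (x * (pb T gK tK)⁻¹)) (by
    refine MonoidHom.ext fun m => ?_
    rw [map_mul, map_inv, pb_pb, map_mul, map_inv, MonoidHom.mul_apply, MonoidHom.inv_apply, hwh, htK,
      mul_inv_cancel, MonoidHom.one_apply])
  obtain ⟨a, ha⟩ := exists_integral_point gO
    (fun a b h => hinjO (heF (by rw [← hcF, ← hcF, h])))
    (fun r => (ValuationSubring.mem_or_inv_mem (v.adicCompletionIntegers (FractionRing A)) r).imp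
      (fun hr => ⟨⟨r, hr⟩, hgO _⟩) fun hr => ⟨⟨r⁻¹, hr⟩, hgO _⟩)
    ιO hloc eF heF cF hcF _ z hz
  exact ⟨a, tK, by rw [ha, inv_mul_cancel_right]⟩

end Groth.Agent.IsoTorusPts
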